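import Groth.Agent.Lib.TautJac28.Vanish
import Mathlib.RingTheory.Adjoin.Basic
import Mathlib.Algebra.Order.Field.Rat
import Mathlib.Tactic.LinearCombination

/-!
# The low symbols generate in first degree zero
-/

set_option autoImplicit false
open W4c3tautjacobian MvPolynomial

noncomputable section

namespace Groth.Agent.TautJac28

variable {g : ℕ}

/-- The sign of an index pair. -/
def sgn (p : ℕ × ℕ) : ℚ := if p = (0, 0) then 1 else -(-1) ^ ((p.1 + p.2) / 2)

lemma sgn_eq {p : ℕ × ℕ} (h : p ≠ (0, 0)) : sgn p = -(-1) ^ ((p.1 + p.2) / 2) := if_neg h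

/-- Sign change, forgetting the extra symbol. -/
def ψ (g : ℕ) : RelRing g →ₐ[ℚ] RelRing g :=
  aeval fun v => match v with
    | none => 0
    | some p => C (sgn p.1) * X (some p)

lemma ψ_none : ψ g (X none) = 0 := by simp [ψ]

lemma ψ_some (p : {p : ℕ × ℕ // Valid g p}) : ψ g (X (some p)) = C (sgn p.1) * X (some p) := by simp [ψ]

lemma ψ_xv (a b : ℕ) : ψ g (xv g a b) = C (sgn (a, b)) * xv g a b := by
  unfold xv
  split_ifs with h h'
  · obtain ⟨rfl, rfl⟩ : a = 0 ∧ b = 0 := by omega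
    simp [sgn]
  · simp only [Int.toNat_natCast, ψ_some]
  · simp

lemma xv_neg {i j : ℤ} (h : i < 0 ∨ j < 0) : xv g i j = 0 := by
  rw [xv, if_neg (by omega), dif_neg (by omega)]

lemma dv_add (p : ℕ × ℕ) (P Q : RelRing g) : dv g p (P + Q) = dv g p P + dv g p Q := by
  unfold dv; split_ifs <;> simp

lemma dv_smul (p : ℕ × ℕ) (c : ℚ) (P : RelRing g) : dv g p (c • P) = c • dv g p P := by
  unfold dv; split_ifs <;> simp

lemma sgn_mul_self (p : ℕ × ℕ) : sgn p * sgn p = 1 := by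
  unfold sgn
  split_ifs
  · norm_num
  · rw [neg_mul_neg, ← mul_pow]; norm_num

lemma ψ_pderiv (p : {p : ℕ × ℕ // Valid g p}) (P : RelRing g) :
    C (sgn p.1) * ψ g (pderiv (some p) P) = pderiv (some p) (ψ g P) := by
  induction P using MvPolynomial.induction_on with
  | C c => simp [ψ]
  | add P Q hP hQ => simp only [map_add, mul_add, hP, hQ]
  | mul_X P v hP =>
    rw [pderiv_mul, map_add, map_mul, map_mul, map_mul, pderiv_mul, ← hP]
    rcases v with _ | v
    · rw [ψ_none, pderiv_X_of_ne (by simp)]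
      simp
    · rw [ψ_some, pderiv_C_mul]
      by_cases h : v = p
      · subst h; rw [pderiv_X_self]; simp only [map_one, smul_eq_C_mul]; ring
      · rw [pderiv_X_of_ne (by simpa using h)]; simp; ring

lemma ψ_dv (p : ℕ × ℕ) (P : RelRing g) : ψ g (dv g p P) = C (sgn p) * dv g p (ψ g P) := by
  unfold dv
  split_ifs with h
  · rw [← ψ_pderiv ⟨p, h⟩, ← mul_assoc, ← map_mul, sgn_mul_self, map_one, one_mul]
  · simp

lemma dv_C_mul (p : ℕ × ℕ) (c : ℚ) (P : RelRing g) : dv g p (C c * P) = C c * dv g p P := by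
  rw [← smul_eq_C_mul, dv_smul, smul_eq_C_mul]

/-- The positive operator. -/
def Fp (g : ℕ) (P : RelRing g) : RelRing g :=
  (1 / 2 : ℚ) • (∑ p ∈ idx g, ∑ q ∈ idx g,
      (mergeCoeff p.1 q.1 : RelRing g) * xv g ((p.1 : ℤ) + q.1 - 2) ((p.2 : ℤ) + q.2) * dv g p (dv g q P))
    + ∑ p ∈ idx g, xv g ((p.1 : ℤ) - 2) (p.2 : ℤ) * dv g p P

lemma valid_of_dv_ne {p : ℕ × ℕ} {P : RelRing g} (h : dv g p P ≠ 0) : Valid g p := by
  by_contra hv
  exact h (dif_neg hv)

theorem ψ_F (P : RelRing g) (h20 : dv g (2, 0) (ψ g P) = 0) : ψ g (F g P) = -Fp g (ψ g P) := by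
  rw [F, Fp, map_add, map_smul, map_sum, map_sum, neg_add, ← smul_neg, ← Finset.sum_neg_distrib,
    ← Finset.sum_neg_distrib]
  congr 1
  · congr 1
    refine Finset.sum_congr rfl fun p _ => ?_
    rw [map_sum, ← Finset.sum_neg_distrib]
    refine Finset.sum_congr rfl fun q _ => ?_
    rw [map_mul, map_sub, map_mul, map_mul, ψ_none, map_mul, map_natCast, ψ_dv, ψ_dv, dv_C_mul]
    by_cases h0 : dv g p (dv g q (ψ g P)) = 0
    · simp [h0]
    have hp := valid_of_dv_ne h0
    have hq : Valid g q := valid_of_dv_ne fun e => h0 (by rw [e]; simp [dv])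
    by_cases hm : mergeCoeff p.1 q.1 = 0
    · simp [hm]
    have h2 : 2 ≤ p.1 + q.1 := by
      by_contra h2
      exact hm (by rw [mergeCoeff, if_pos]; omega)
    rw [show (p.1 : ℤ) + q.1 - 2 = ((p.1 + q.1 - 2 : ℕ) : ℤ) by omega,
      show (p.2 : ℤ) + q.2 = ((p.2 + q.2 : ℕ) : ℤ) by omega, ψ_xv]
    have hne : (p.1 + q.1 - 2, p.2 + q.2) ≠ (0, 0) := by
      intro e
      obtain ⟨e1, e2⟩ := Prod.ext_iff.1 e
      simp only at e1 e2
      obtain ⟨p1, p2⟩ := p
      obtain ⟨q1, q2⟩ := q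
      obtain ⟨a1, -, ⟨a, ha⟩, a4⟩ := hp
      obtain ⟨b1, -, ⟨b, hb⟩, b4⟩ := hq
      simp only [Prod.mk.injEq, ne_eq] at *
      omega
    have hs : sgn p * (sgn q * sgn (p.1 + q.1 - 2, p.2 + q.2)) = 1 := by
      obtain ⟨a, ha⟩ := hp.2.2.1
      obtain ⟨b, hb⟩ := hq.2.2.1
      rw [sgn_eq hp.2.2.2, sgn_eq hq.2.2.2, sgn_eq hne, neg_mul_neg, neg_mul, ← pow_add, ← pow_add]
      rw [show (p.1 + p.2) / 2 + ((q.1 + q.2) / 2 + (p.1 + q.1 - 2 + (p.2 + q.2)) / 2) = 2 * (a + b - 1) + 1 by omega]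
      rw [pow_succ, pow_mul]; norm_num
    have hs' : C (sgn p) * (C (sgn q) * C (sgn (p.1 + q.1 - 2, p.2 + q.2))) = (1 : RelRing g) := by
      rw [← map_mul, ← map_mul, hs, map_one]
    linear_combination (-1 : RelRing g) * ((mergeCoeff p.1 q.1 : RelRing g) * xv g ((p.1 + q.1 - 2 : ℕ) : ℤ) ((p.2 + q.2 : ℕ) : ℤ) *
      dv g p (dv g q (ψ g P))) * hs'
  · refine Finset.sum_congr rfl fun p _ => ?_
    rw [map_mul, ψ_dv]
    by_cases h0 : dv g p (ψ g P) = 0
    · simp [h0]
    have hp := valid_of_dv_ne h0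
    by_cases hp2 : p.1 < 2
    · rw [xv_neg (by omega)]; simp
    have hne : (p.1 - 2, p.2) ≠ (0, 0) := by
      intro e
      obtain ⟨e1, e2⟩ := Prod.ext_iff.1 e
      simp only at e1 e2
      exact h0 (by rw [show p = (2, 0) from Prod.ext (by omega) e2]; exact h20)
    rw [show (p.1 : ℤ) - 2 = ((p.1 - 2 : ℕ) : ℤ) by omega, ψ_xv]
    have hs : C (sgn p) * C (sgn (p.1 - 2, p.2)) = (-1 : RelRing g) := by
      obtain ⟨a, ha⟩ := hp.2.2.1
      rw [← map_mul, sgn_eq hp.2.2.2, sgn_eq hne, neg_mul_neg, ← pow_add, show (p.1 + p.2) / 2 + (p.1 - 2 + p.2) / 2 = 2 * (a - 1) + 1 by omega,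
        pow_succ, pow_mul]
      simp
    linear_combination (xv g ((p.1 - 2 : ℕ) : ℤ) (p.2 : ℤ) * dv g p (ψ g P)) * hs

/-- Non-negative coefficients. -/
def NN (P : RelRing g) : Prop :=
  ∀ m, 0 ≤ coeff m P ∧ ∀ h : Valid g (2, 0), m (some ⟨(2, 0), h⟩) ≠ 0 → coeff m P = 0

lemma NN.add {P Q : RelRing g} (hP : NN P) (hQ : NN Q) : NN (P + Q) := fun m => by
  rw [coeff_add]
  exact ⟨add_nonneg (hP m).1 (hQ m).1, fun h hm => by rw [(hP m).2 h hm, (hQ m).2 h hm, add_zero]⟩

lemma NN.sum {α : Type} {s : Finset α} {f : α → RelRing g} (h : ∀ a ∈ s, NN (f a)) : NN (∑ a ∈ s, f a) := fun m => by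
  rw [coeff_sum]
  exact ⟨Finset.sum_nonneg fun a ha => (h a ha m).1, fun hv hm => Finset.sum_eq_zero fun a ha => (h a ha m).2 hv hm⟩

lemma NN.mul {P Q : RelRing g} (hP : NN P) (hQ : NN Q) : NN (P * Q) := fun m => by
  classical
  rw [coeff_mul]
  refine ⟨Finset.sum_nonneg fun a _ => mul_nonneg (hP _).1 (hQ _).1, fun h hm => Finset.sum_eq_zero fun a ha => ?_⟩
  rw [Finset.mem_antidiagonal] at ha
  by_cases ha1 : a.1 (some ⟨(2, 0), h⟩) = 0
  · rw [(hQ a.2).2 h fun e => hm (by rw [← ha, Finsupp.add_apply, ha1, e]), mul_zero]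
  · rw [(hP a.1).2 h ha1, zero_mul]

lemma NN.smul {c : ℚ} (hc : 0 ≤ c) {P : RelRing g} (hP : NN P) : NN (c • P) := fun m => by
  rw [coeff_smul, smul_eq_mul]
  exact ⟨mul_nonneg hc (hP m).1, fun h hm => by rw [(hP m).2 h hm, mul_zero]⟩

lemma NN.monomial (d : Var g →₀ ℕ) (hd : ∀ h : Valid g (2, 0), d (some ⟨(2, 0), h⟩) = 0) {c : ℚ} (hc : 0 ≤ c) :
    NN (MvPolynomial.monomial d c : RelRing g) := fun m => by
  classical
  rw [coeff_monomial]
  split_ifs with e
  · exact ⟨hc, fun h hm => absurd (e ▸ hd h) hm⟩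
  · exact ⟨le_rfl, fun _ _ => rfl⟩

lemma NN.zero : NN (0 : RelRing g) := fun m => by simp

lemma NN.natCast (n : ℕ) : NN (n : RelRing g) := by
  rw [← map_natCast C]; exact NN.monomial 0 (fun _ => rfl) (Nat.cast_nonneg n)

lemma NN.xv (i j : ℤ) (hne : ¬(i = 2 ∧ j = 0)) : NN (xv g i j) := by
  unfold W4c3tautjacobian.xv
  split_ifs
  · exact NN.natCast g
  · refine NN.monomial _ (fun h => ?_) zero_le_one
    rw [Finsupp.single_apply, if_neg]
    intro e
    simp only [Option.some.injEq, Subtype.mk.injEq, Prod.mk.injEq] at e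
    omega
  · exact NN.zero

lemma NN.dv (p : ℕ × ℕ) {P : RelRing g} (hP : NN P) : NN (dv g p P) := by
  unfold W4c3tautjacobian.dv
  split_ifs
  · intro m
    rw [coeff_pderiv]
    refine ⟨mul_nonneg (hP _).1 (by positivity), fun h hm => ?_⟩
    rw [(hP _).2 h (by rw [Finsupp.add_apply]; omega), zero_mul]
  · exact NN.zero

lemma NN.dv_two_zero {P : RelRing g} (hP : NN P) : W4c3tautjacobian.dv g (2, 0) P = 0 := by
  unfold W4c3tautjacobian.dv
  split_ifs with h
  · refine MvPolynomial.ext _ _ fun m => ?_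
    rw [coeff_pderiv, (hP _).2 h (by simp), zero_mul, coeff_zero]
  · rfl

lemma NN.mergeTerm {P : RelRing g} (hP : NN P) (p q : ℕ × ℕ) :
    NN ((mergeCoeff p.1 q.1 : RelRing g) * W4c3tautjacobian.xv g ((p.1 : ℤ) + q.1 - 2) ((p.2 : ℤ) + q.2) *
      W4c3tautjacobian.dv g p (W4c3tautjacobian.dv g q P)) := by
  by_cases h : ((p.1 : ℤ) + q.1 - 2 = 2 ∧ (p.2 : ℤ) + q.2 = 0)
  · suffices W4c3tautjacobian.dv g p (W4c3tautjacobian.dv g q P) = 0 by rw [this, mul_zero]; exact NN.zero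
    by_contra h0
    have hp := valid_of_dv_ne h0
    have hq : Valid g q := valid_of_dv_ne fun e => h0 (by rw [e]; simp [W4c3tautjacobian.dv])
    obtain ⟨q1, q2⟩ := q
    obtain ⟨b1, -, ⟨b, hb⟩, b4⟩ := hq
    simp only [Prod.mk.injEq, ne_eq] at *
    obtain ⟨rfl, rfl⟩ : q1 = 2 ∧ q2 = 0 := by omega
    exact h0 (by rw [hP.dv_two_zero]; simp [W4c3tautjacobian.dv])
  · exact ((NN.natCast _).mul (NN.xv _ _ h)).mul (hP.dv q |>.dv p)

lemma NN.lowerTerm {P : RelRing g} (hP : NN P) (p : ℕ × ℕ) :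
    NN (W4c3tautjacobian.xv g ((p.1 : ℤ) - 2) (p.2 : ℤ) * W4c3tautjacobian.dv g p P) := by
  by_cases h : ((p.1 : ℤ) - 2 = 2 ∧ (p.2 : ℤ) = 0)
  · rw [W4c3tautjacobian.dv, dif_neg fun hv => by obtain ⟨h1, -⟩ := hv; omega, mul_zero]
    exact NN.zero
  · exact (NN.xv _ _ h).mul (hP.dv p)

lemma NN.Fp {P : RelRing g} (hP : NN P) : NN (Fp g P) :=
  (NN.smul (by norm_num) (NN.sum fun p _ => NN.sum fun q _ => hP.mergeTerm p q)).add
    (NN.sum fun p _ => hP.lowerTerm p)

lemma valid_mem_idx {p : ℕ × ℕ} (h : Valid g p) : p ∈ idx g := by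
  obtain ⟨h1, h2, -⟩ := h
  simp only [idx, Finset.mem_product, Finset.mem_range]
  omega

lemma xv_valid {p : ℕ × ℕ} (h : Valid g p) : xv g (p.1 : ℤ) (p.2 : ℤ) = X (some ⟨p, h⟩) := by
  rw [xv, if_neg (fun e => h.2.2.2 (Prod.ext (by omega) (by omega))), dif_pos ⟨by omega, by omega, by simpa using h⟩]
  simp

lemma coeff_dv {p : ℕ × ℕ} (hp : Valid g p) (m : Var g →₀ ℕ) (P : RelRing g)
    (h : 0 < coeff (m + Finsupp.single (some ⟨p, hp⟩) 1) P) : 0 < coeff m (dv g p P) := by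
  rw [dv, dif_pos hp, coeff_pderiv]
  exact mul_pos h (by positivity)

theorem step_lower {P : RelRing g} (hP : NN P) {p p' : ℕ × ℕ} (hp : Valid g p) (hp' : Valid g p')
    (h1 : p'.1 + 2 = p.1) (h2 : p'.2 = p.2) (m : Var g →₀ ℕ)
    (h : 0 < coeff (m + Finsupp.single (some ⟨p, hp⟩) 1) P) :
    0 < coeff (Finsupp.single (some ⟨p', hp'⟩) 1 + m) (Fp g P) := by
  rw [Fp, coeff_add, coeff_sum (s := idx g)]
  refine add_pos_of_nonneg_of_pos ?_ (Finset.sum_pos' (fun q _ => (hP.lowerTerm q _).1) ⟨p, valid_mem_idx hp, ?_⟩)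
  · exact ((NN.smul (by norm_num) (NN.sum fun p _ => NN.sum fun q _ => hP.mergeTerm p q)) _).1
  · rw [show (p.1 : ℤ) - 2 = (p'.1 : ℤ) by omega, ← h2, xv_valid hp', coeff_X_mul]
    exact coeff_dv hp m P h

theorem step_merge {P : RelRing g} (hP : NN P) {p q t : ℕ × ℕ} (hp : Valid g p) (hq : Valid g q) (ht : Valid g t)
    (h1 : t.1 + 2 = p.1 + q.1) (h2 : t.2 = p.2 + q.2) (hm : mergeCoeff p.1 q.1 ≠ 0) (m : Var g →₀ ℕ)
    (h : 0 < coeff (m + Finsupp.single (some ⟨p, hp⟩) 1 + Finsupp.single (some ⟨q, hq⟩) 1) P) :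
    0 < coeff (Finsupp.single (some ⟨t, ht⟩) 1 + m) (Fp g P) := by
  rw [Fp, coeff_add, coeff_smul, coeff_sum (s := idx g), smul_eq_mul]
  refine add_pos_of_pos_of_nonneg (mul_pos (by norm_num) ?_) ((NN.sum fun p _ => hP.lowerTerm p) _).1
  refine Finset.sum_pos' (fun a _ => ((NN.sum fun b _ => hP.mergeTerm a b) _).1)
    ⟨p, valid_mem_idx hp, ?_⟩
  rw [coeff_sum]
  refine Finset.sum_pos' (fun b _ => (hP.mergeTerm p b _).1)
    ⟨q, valid_mem_idx hq, ?_⟩
  rw [show (p.1 : ℤ) + q.1 - 2 = (t.1 : ℤ) by omega, show (p.2 : ℤ) + q.2 = (t.2 : ℤ) by omega, xv_valid ht,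
    mul_assoc, ← map_natCast C, coeff_C_mul, coeff_X_mul]
  exact mul_pos (by exact_mod_cast Nat.pos_of_ne_zero hm) (coeff_dv hp m _ (coeff_dv hq _ P h))

theorem chain {i : ℕ} (hi : 1 ≤ i) (hig : i + 1 ≤ g) (h31 : Valid g (3, 1)) (h0 : Valid g (0, 2 * i)) :
    NN ((Fp g)^[3 * i] (monomial (Finsupp.single (some ⟨(3, 1), h31⟩) (2 * i)) 1 : RelRing g)) ∧
      0 < coeff (Finsupp.single (some ⟨(0, 2 * i), h0⟩) 1)
        ((Fp g)^[3 * i] (monomial (Finsupp.single (some ⟨(3, 1), h31⟩) (2 * i)) 1 : RelRing g)) := by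
  classical
  set P₀ : RelRing g := monomial (Finsupp.single (some ⟨(3, 1), h31⟩) (2 * i)) 1
  have hNN : ∀ s, NN ((Fp g)^[s] P₀) := fun s => by
    induction s with
    | zero =>
      refine NN.monomial _ (fun h => ?_) zero_le_one
      rw [Finsupp.single_apply, if_neg (by simp)]
    | succ s ih => rw [Function.iterate_succ_apply']; exact ih.Fp
  have hv : ∀ r, 1 ≤ r → r ≤ 2 * i → Valid g (r + 2, r) := fun r h1 h2 =>
    ⟨by simp only; omega, by simp only; omega, ⟨r + 1, by omega⟩, by simp⟩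
  have hmerge : ∀ r (h1 : 1 ≤ r) (h2 : r ≤ 2 * i), 0 < coeff (Finsupp.single (some ⟨(r + 2, r), hv r h1 h2⟩) 1 +
      Finsupp.single (some ⟨(3, 1), h31⟩) (2 * i - r)) ((Fp g)^[r - 1] P₀) := by
    intro r
    induction r with
    | zero => intro h; omega
    | succ r ih =>
      intro h1 h2
      rcases Nat.eq_zero_or_pos r with rfl | hr
      · have e : Finsupp.single (some (⟨(0 + 1 + 2, 0 + 1), hv 1 le_rfl h2⟩ : {p // Valid g p})) 1 +
            Finsupp.single (some ⟨(3, 1), h31⟩) (2 * i - (0 + 1)) = Finsupp.single (some ⟨(3, 1), h31⟩) (2 * i) := by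
          rw [show (⟨(0 + 1 + 2, 0 + 1), hv 1 le_rfl h2⟩ : {p // Valid g p}) = ⟨(3, 1), h31⟩ from rfl,
            ← Finsupp.single_add]
          congr 1; omega
        rw [e, show 0 + 1 - 1 = 0 from rfl, Function.iterate_zero_apply]
        simp [P₀]
      · have h := ih hr (by omega)
        rw [show r + 1 - 1 = (r - 1) + 1 by omega, Function.iterate_succ_apply']
        refine step_merge (hNN _) (hv r hr (by omega)) h31 (hv (r + 1) h1 h2) (by simp only) rfl ?_ _ ?_
        · rw [mergeCoeff, if_neg (by simp)]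
          exact (Nat.choose_pos (by simp only; omega)).ne'
        · convert h using 2
          rw [show 2 * i - r = (2 * i - (r + 1)) + 1 by omega, Finsupp.single_add]
          abel
  have hlv : ∀ t, t ≤ i + 1 → Valid g (2 * i + 2 - 2 * t, 2 * i) := fun t ht =>
    ⟨by simp only; omega, by simp only; omega, ⟨2 * i + 1 - t, by omega⟩, fun e => by
      simp only [Prod.mk.injEq] at e; omega⟩
  have hlower : ∀ t (ht : t ≤ i + 1), 0 < coeff (Finsupp.single (some ⟨(2 * i + 2 - 2 * t, 2 * i), hlv t ht⟩) 1)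
      ((Fp g)^[2 * i - 1 + t] P₀) := by
    intro t
    induction t with
    | zero =>
      intro ht
      have := hmerge (2 * i) (by omega) le_rfl
      simpa using this
    | succ t ih =>
      intro ht
      have h := ih (by omega)
      rw [show 2 * i - 1 + (t + 1) = (2 * i - 1 + t) + 1 by omega, Function.iterate_succ_apply']
      rw [← add_zero (Finsupp.single _ 1)]
      refine step_lower (hNN _) (hlv t (by omega)) (hlv (t + 1) ht) (by simp only; omega) rfl 0 ?_
      rwa [zero_add]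
  refine ⟨hNN _, ?_⟩
  have h := hlower (i + 1) le_rfl
  rw [show 2 * i - 1 + (i + 1) = 3 * i by omega] at h
  convert h using 6
  omega

theorem coeff_ψ (P : RelRing g) (p : {p : ℕ × ℕ // Valid g p}) :
    coeff (Finsupp.single (some p) 1) (ψ g P) = sgn p.1 * coeff (Finsupp.single (some p) 1) P := by
  classical
  have e : (pderiv (some p) (ψ g P)).coeff 0 = sgn p.1 * (pderiv (some p) P).coeff 0 := by
    rw [← ψ_pderiv, coeff_C_mul]
    congr 1
    show constantCoeff (ψ g _) = constantCoeff _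
    generalize pderiv (some p) P = Q
    induction Q using MvPolynomial.induction_on with
    | C c => simp [ψ]
    | add A B hA hB => simp only [map_add, hA, hB]
    | mul_X A v hA => rcases v with _ | v <;> simp [ψ_none, ψ_some]
  simpa [coeff_pderiv] using e

theorem coeff_iterate_ne_zero {i : ℕ} (hi : 1 ≤ i) (hig : i + 1 ≤ g) (h31 : Valid g (3, 1)) (h0 : Valid g (0, 2 * i)) :
    coeff (Finsupp.single (some ⟨(0, 2 * i), h0⟩) 1)
      ((F g)^[3 * i] (monomial (Finsupp.single (some ⟨(3, 1), h31⟩) (2 * i)) 1 : RelRing g)) ≠ 0 := by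
  set d := Finsupp.single (some (⟨(3, 1), h31⟩ : {p // Valid g p})) (2 * i)
  have hψ : ψ g (monomial d 1 : RelRing g) = monomial d 1 := by
    rw [← one_mul (monomial d 1 : RelRing g), ← C_1, C_mul_monomial, one_mul, ← X_pow_eq_monomial, map_pow, ψ_some,
      show sgn (3, 1) = -1 by norm_num [sgn], mul_pow, ← map_pow, (even_two_mul i).neg_one_pow, map_one, one_mul]
  have hFp : ∀ (c : ℚ) (Q : RelRing g), Fp g (c • Q) = c • Fp g Q := fun c Q => by
    simp only [Fp, dv_smul, mul_smul_comm, ← Finset.smul_sum, smul_add, smul_comm c]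
  have hNN : ∀ s, NN ((Fp g)^[s] (monomial d 1 : RelRing g)) := fun s => by
    induction s with
    | zero => refine NN.monomial _ (fun h => ?_) zero_le_one; rw [Finsupp.single_apply, if_neg (by simp)]
    | succ s ih => rw [Function.iterate_succ_apply']; exact ih.Fp
  have hit : ∀ s, ψ g ((F g)^[s] (monomial d 1)) = ((-1 : ℚ) ^ s) • (Fp g)^[s] (monomial d 1) := fun s => by
    induction s with
    | zero => simp [hψ]
    | succ s ih =>
      rw [Function.iterate_succ_apply', ψ_F _ (by rw [ih, dv_smul, (hNN s).dv_two_zero, smul_zero]), ih, hFp, Function.iterate_succ_apply', pow_succ, mul_neg_one, neg_smul]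
  intro h
  have h2 := coeff_ψ ((F g)^[3 * i] (monomial d 1)) ⟨(0, 2 * i), h0⟩
  rw [h, mul_zero, hit, coeff_smul, smul_eq_mul, mul_eq_zero] at h2
  rcases h2 with h2 | h2
  · exact pow_ne_zero _ (by norm_num) h2
  · exact (chain hi hig h31 h0).2.ne' h2

/-- Monomials of bidegree `(0, 2i)` other than the symbol itself involve lower symbols only. -/
theorem lower_vars {i : ℕ} (h0 : Valid g (0, 2 * i)) {d : Var g →₀ ℕ}
    (hw : Finsupp.weight (wt g) d = (0, 2 * i)) (hne : d ≠ Finsupp.single (some ⟨(0, 2 * i), h0⟩) 1)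
    (v : Var g) (hv : v ∈ d.support) : v = none ∨ ∃ j, 1 ≤ j ∧ j < i ∧ (X v : RelRing g) = xv g 0 (2 * (j : ℤ)) := by
  classical
  rcases v with _ | ⟨⟨a, b⟩, hab⟩
  · exact Or.inl rfl
  right
  obtain ⟨d', rfl⟩ : ∃ d', d = Finsupp.single (some ⟨(a, b), hab⟩) 1 + d' :=
    ⟨d - Finsupp.single _ 1, (add_tsub_cancel_of_le (Finsupp.single_le_iff.2
      (Nat.one_le_iff_ne_zero.2 (Finsupp.mem_support_iff.1 hv)))).symm⟩
  rw [map_add, Finsupp.weight_single, one_smul] at hw
  simp only [wt, Prod.ext_iff, Prod.fst_add, Prod.snd_add] at hw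
  obtain ⟨c, hc⟩ := hab.2.2.1
  simp only at hc
  have hb0 : b ≠ 0 := fun hb => hab.2.2.2 (Prod.ext (show a = 0 by omega) hb)
  have hlt : b < 2 * i := by
    by_contra hle
    refine hne ?_
    have hd' : d' = 0 := by
      by_contra hd'
      obtain ⟨u, hu⟩ := Finsupp.support_nonempty_iff.2 hd'
      obtain ⟨d'', rfl⟩ : ∃ d'', d' = Finsupp.single u 1 + d'' :=
        ⟨d' - Finsupp.single _ 1, (add_tsub_cancel_of_le (Finsupp.single_le_iff.2
          (Nat.one_le_iff_ne_zero.2 (Finsupp.mem_support_iff.1 hu)))).symm⟩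
      rw [map_add, Finsupp.weight_single, one_smul] at hw
      simp only [Prod.fst_add, Prod.snd_add] at hw
      rcases u with _ | ⟨⟨a', b'⟩, h'⟩
      · simp only [wt] at hw; omega
      · simp only [wt] at hw
        exact h'.2.2.2 (Prod.ext (show a' = 0 by omega) (show b' = 0 by omega))
    subst hd'
    obtain ⟨rfl, rfl⟩ : a = 0 ∧ b = 2 * i := by constructor <;> omega
    rw [add_zero]
  refine ⟨c, by omega, by omega, ?_⟩
  obtain rfl : a = 0 := by omega
  rw [show (2 : ℤ) * c = ((b : ℕ) : ℤ) by omega]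
  exact (xv_valid hab).symm

theorem main (hg : 1 ≤ g) : ∀ i : ℕ, ∃ q ∈ Algebra.adjoin ℚ (lowGens g), xv g 0 (2 * (i : ℤ)) - q ∈ relIdeal g := by
  classical
  intro i
  induction i using Nat.strong_induction_on with
  | _ i ih =>
    rcases Nat.eq_zero_or_pos i with rfl | hi
    · refine ⟨(g : RelRing g), natCast_mem _ g, ?_⟩
      simp [xv]
    by_cases hlow : 3 * i ≤ g
    · exact ⟨_, Algebra.subset_adjoin (Or.inr ⟨i, hi, hlow, rfl⟩), by simp⟩
    by_cases hv : g < i + 1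
    · refine ⟨0, zero_mem _, ?_⟩
      rw [xv, if_neg (by omega), dif_neg (by rintro ⟨-, -, -, h, -⟩; simp only at h; omega)]
      simp
    have h31 : Valid g (3, 1) := ⟨le_rfl, by simp only; omega, ⟨2, rfl⟩, by simp⟩
    have h0 : Valid g (0, 2 * i) := ⟨Nat.zero_le _, by simp only; omega, ⟨i, by omega⟩, by simp; omega⟩
    set d := Finsupp.single (some (⟨(3, 1), h31⟩ : {p // Valid g p})) (2 * i) with hd
    have hw : Finsupp.weight (wt g) d = (2 * (3 * i), 2 * i) := by
      rw [hd, Finsupp.weight_single]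
      simp [wt, Prod.smul_mk]; ring
    set P := (F g)^[3 * i] (monomial d 1 : RelRing g) with hP
    have hrel : P ∈ relIdeal g := Ideal.subset_span ⟨d, 3 * i, by rw [hw]; simp only; omega, rfl⟩
    have hh : IsWeightedHomogeneous (wt g) P ((0, 2 * i) : ℕ × ℕ) := by
      have := (iterate_homog hg (isWeightedHomogeneous_monomial (wt g) d (1 : ℚ) hw) (3 * i)).1
      simpa using this
    set D := Finsupp.single (some (⟨(0, 2 * i), h0⟩ : {p // Valid g p})) 1 with hD
    have hc : coeff D P ≠ 0 := coeff_iterate_ne_zero hi (by omega) h31 h0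
    let J := Submodule.span ℚ ((relIdeal g : Set (RelRing g)))
    -- congruent to the subalgebra
    let A : Submodule ℚ (RelRing g) :=
      (Algebra.adjoin ℚ (lowGens g)).toSubmodule ⊔ (relIdeal g).restrictScalars ℚ
    have hA : ∀ x ∈ A, ∀ y ∈ A, x * y ∈ A := by
      intro x hx y hy
      obtain ⟨a, ha, b, hb, rfl⟩ := Submodule.mem_sup.1 hx
      obtain ⟨a', ha', b', hb', rfl⟩ := Submodule.mem_sup.1 hy
      exact Submodule.mem_sup.2 ⟨a * a', (Algebra.adjoin ℚ (lowGens g)).mul_mem ha ha', a * b' + b * (a' + b'),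
        add_mem (Ideal.mul_mem_left _ _ hb') (Ideal.mul_mem_right _ _ hb), by ring⟩
    have hA1 : (1 : RelRing g) ∈ A := Submodule.mem_sup_left (Algebra.adjoin ℚ (lowGens g)).one_mem
    have hrest : P - monomial D (coeff D P) ∈ A := by
      rw [show P - monomial D (coeff D P) = ∑ e ∈ P.support.erase D, monomial e (coeff e P) by
        rw [Finset.sum_erase_eq_sub (mem_support_iff.2 hc), ← P.as_sum]]
      refine Submodule.sum_mem _ fun e he => ?_
      obtain ⟨hne, he⟩ := Finset.mem_erase.1 he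
      rw [← mul_one (coeff e P), ← smul_eq_mul (a := coeff e P), ← smul_monomial]
      refine Submodule.smul_mem _ _ ?_
      rw [monomial_eq, map_one, one_mul, Finsupp.prod]
      refine Finset.prod_induction _ (· ∈ A) (fun a b ha hb => hA a ha b hb) hA1 fun v hv => ?_
      have hX : (X v : RelRing g) ∈ A := by
        rcases lower_vars h0 (hh (mem_support_iff.1 he)) hne v hv with rfl | ⟨j, -, hj, he⟩
        · exact Submodule.mem_sup_left (Algebra.subset_adjoin (Or.inl rfl))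
        · obtain ⟨q, hq, hq'⟩ := ih j hj
          rw [he]
          exact Submodule.mem_sup.2 ⟨q, hq, _, hq', by ring⟩
      generalize e v = n
      induction n with
      | zero => simpa using hA1
      | succ n ihn => rw [pow_succ]; exact hA _ ihn _ hX
    have hmon : monomial D (coeff D P) ∈ A := by
      have := Submodule.sub_mem A (Submodule.mem_sup_right (hrel : P ∈ (relIdeal g).restrictScalars ℚ)) hrest
      simpa using this
    have hfin : (xv g 0 (2 * (i : ℤ))) ∈ A := by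
      rw [show (2 : ℤ) * i = ((2 * i : ℕ) : ℤ) by omega, show (0 : ℤ) = ((0 : ℕ) : ℤ) from rfl, xv_valid h0]
      have := Submodule.smul_mem A (coeff D P)⁻¹ hmon
      rwa [smul_monomial, smul_eq_mul, inv_mul_cancel₀ hc] at this
    obtain ⟨q, hq, b, hb, he⟩ := Submodule.mem_sup.1 hfin
    exact ⟨q, hq, by rw [← he, add_sub_cancel_left]; exact hb⟩

end Groth.Agent.TautJac28
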