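import Groth.Prelude.Def_W4c3tautjacobianRel
import Mathlib.RingTheory.MvPolynomial.EulerIdentity
import Mathlib.Data.Fintype.Option

/-!
# Degrees and commutator in the formal relation ring
-/

set_option autoImplicit false
open W4c3tautjacobian

namespace Groth.Agent.TautJac28

theorem structure_lemmas (g : ℕ) (hg : 1 ≤ g) :
    (∀ (P : RelRing g) (a b : ℕ), MvPolynomial.IsWeightedHomogeneous (wt g) P ((a, b) : ℕ × ℕ) →
      ∀ m ∈ (F g P).support, (Finsupp.weight (wt g) m).1 + 2 = a ∧ (Finsupp.weight (wt g) m).2 = b) ∧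
    (∀ (P : RelRing g) (a b : ℕ), MvPolynomial.IsWeightedHomogeneous (wt g) P ((a, b) : ℕ × ℕ) →
      F g (E g P) = E g (F g P) + ((g : RelRing g) - (a : RelRing g)) * P) ∧
    (∀ A B, F g (A + B) = F g A + F g B) ∧ (∀ (c : ℚ) A, F g (c • A) = c • F g A) := by
  classical
  haveI : Fintype {p : ℕ × ℕ // W4c3tautjacobian.Valid g p} :=
    Fintype.subtype ((W4c3tautjacobian.idx g).filter (W4c3tautjacobian.Valid g)) fun p => by
      simp only [Finset.mem_filter, W4c3tautjacobian.idx, Finset.mem_product, Finset.mem_range]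
      exact ⟨fun h => h.2, fun h => ⟨by obtain ⟨h1, h2, -⟩ := h; omega, h⟩⟩
  have hv20 : W4c3tautjacobian.Valid g (2, 0) := ⟨le_refl 2, by omega, ⟨1, rfl⟩, by decide⟩
  have hE : ∀ P, W4c3tautjacobian.E g P = MvPolynomial.X (some ⟨(2, 0), hv20⟩) * P := fun P => by
    rw [W4c3tautjacobian.E, W4c3tautjacobian.xv, if_neg (by decide), dif_pos ⟨by decide, by decide, hv20⟩]
    rfl
  -- virtual variables are homogeneous of their indices
  have hxv : ∀ (i j : ℤ) (a b : ℕ), (a : ℤ) = i → (b : ℤ) = j →
      MvPolynomial.IsWeightedHomogeneous (W4c3tautjacobian.wt g) (W4c3tautjacobian.xv g i j) ((a, b) : ℕ × ℕ) := by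
    intro i j a b hai hbj
    rw [W4c3tautjacobian.xv]
    split_ifs with h h'
    · obtain ⟨rfl, rfl⟩ : a = 0 ∧ b = 0 := by omega
      exact MvPolynomial.isWeightedHomogeneous_C (W4c3tautjacobian.wt g) (g : ℚ)
    · have hw : (W4c3tautjacobian.wt g (some ⟨(i.toNat, j.toNat), h'.2.2⟩)) = (a, b) :=
        Prod.ext (show i.toNat = a by omega) (show j.toNat = b by omega)
      exact hw ▸ MvPolynomial.isWeightedHomogeneous_X _ _ _
    · exact MvPolynomial.isWeightedHomogeneous_zero _ _ _
  have hxv0 : ∀ (i j : ℤ), i < 0 ∨ j < 0 → W4c3tautjacobian.xv g i j = 0 := by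
    intro i j h
    rw [W4c3tautjacobian.xv, if_neg (by omega), dif_neg (by omega)]
  -- derivatives lower the degree
  have hdv : ∀ (p : ℕ × ℕ) (P : W4c3tautjacobian.RelRing g) (d : ℕ × ℕ),
      MvPolynomial.IsWeightedHomogeneous (W4c3tautjacobian.wt g) P d →
      ∀ m ∈ (W4c3tautjacobian.dv g p P).support, Finsupp.weight (W4c3tautjacobian.wt g) m + p = d := by
    intro p P d hP m hm
    rw [W4c3tautjacobian.dv] at hm
    split_ifs at hm with h
    · rw [MvPolynomial.mem_support_iff, MvPolynomial.coeff_pderiv] at hm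
      have := hP (left_ne_zero_of_mul hm)
      rw [map_add, Finsupp.weight_single, one_smul] at this
      exact this
    · simp at hm
  have hF : ∀ (P : W4c3tautjacobian.RelRing g) (a b : ℕ),
      MvPolynomial.IsWeightedHomogeneous (W4c3tautjacobian.wt g) P ((a, b) : ℕ × ℕ) →
      ∀ m ∈ (W4c3tautjacobian.F g P).support, (Finsupp.weight (W4c3tautjacobian.wt g) m).1 + 2 = a ∧
        (Finsupp.weight (W4c3tautjacobian.wt g) m).2 = b := by
    intro P a b hP
    let S : Set (W4c3tautjacobian.RelRing g) := {Q | ∀ m ∈ Q.support,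
      (Finsupp.weight (W4c3tautjacobian.wt g) m).1 + 2 = a ∧ (Finsupp.weight (W4c3tautjacobian.wt g) m).2 = b}
    have hadd : ∀ {A B}, A ∈ S → B ∈ S → A + B ∈ S := fun hA hB m hm =>
      (Finset.mem_union.1 (MvPolynomial.support_add hm)).elim (hA m) (hB m)
    have h0 : (0 : W4c3tautjacobian.RelRing g) ∈ S := by simp [S]
    have hsum : ∀ {σ : Type} (t : Finset σ) (Q : σ → W4c3tautjacobian.RelRing g), (∀ i ∈ t, Q i ∈ S) → ∑ i ∈ t, Q i ∈ S :=
      fun t Q h => Finset.sum_induction _ (· ∈ S) (fun _ _ => hadd) h0 h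
    have hmul : ∀ (u : W4c3tautjacobian.RelRing g) (c d : ℕ) (Q : W4c3tautjacobian.RelRing g) (p : ℕ × ℕ),
        MvPolynomial.IsWeightedHomogeneous (W4c3tautjacobian.wt g) u ((c, d) : ℕ × ℕ) →
        (∀ m ∈ Q.support, Finsupp.weight (W4c3tautjacobian.wt g) m + p = (a, b)) →
        c + 2 = p.1 → d = p.2 → u * Q ∈ S := by
      intro u c d Q p hu hQ hc hd m hm
      obtain ⟨m1, h1, m2, h2, rfl⟩ := Finset.mem_add.1 (MvPolynomial.support_mul u Q hm)
      have e1 := hu (MvPolynomial.mem_support_iff.1 h1)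
      have e2 := hQ m2 h2
      simp only [map_add, e1, Prod.ext_iff, Prod.fst_add, Prod.snd_add] at e2 ⊢
      omega
    refine hadd (fun m hm => ?_) (hsum _ _ fun p _ => ?_)
    · refine (hsum (σ := ℕ × ℕ) (W4c3tautjacobian.idx g) _ fun p _ => hsum (σ := ℕ × ℕ) _ _ fun q _ => ?_) m
        (MvPolynomial.support_smul hm)
      have hpq : ∀ m ∈ (W4c3tautjacobian.dv g p (W4c3tautjacobian.dv g q P)).support,
          Finsupp.weight (W4c3tautjacobian.wt g) m + (p + q) = (a, b) := by
        intro m hm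
        rw [W4c3tautjacobian.dv] at hm
        split_ifs at hm with h
        · rw [MvPolynomial.mem_support_iff, MvPolynomial.coeff_pderiv] at hm
          have := hdv q P (a, b) hP _ (MvPolynomial.mem_support_iff.2 (left_ne_zero_of_mul hm))
          rw [map_add, Finsupp.weight_single, one_smul] at this
          rw [← add_assoc]
          exact this
        · simp at hm
      rw [sub_mul, sub_eq_add_neg]
      refine hadd ?_ (fun m hm => ?_)
      · by_cases hneg : p.1 = 0 ∨ p.2 = 0 ∨ q.1 = 0 ∨ q.2 = 0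
        · rcases hneg with h | h | h | h
          · rw [hxv0 ((p.1 : ℤ) - 1) _ (by omega)]; simpa using h0
          · rw [hxv0 ((p.1 : ℤ) - 1) ((p.2 : ℤ) - 1) (by omega)]; simpa using h0
          · rw [hxv0 ((q.1 : ℤ) - 1) _ (by omega)]; simpa using h0
          · rw [hxv0 ((q.1 : ℤ) - 1) ((q.2 : ℤ) - 1) (by omega)]; simpa using h0
        · exact hmul _ ((0, 2) + (p.1 - 1, p.2 - 1) + (q.1 - 1, q.2 - 1) : ℕ × ℕ).1
            ((0, 2) + (p.1 - 1, p.2 - 1) + (q.1 - 1, q.2 - 1) : ℕ × ℕ).2 _ (p + q)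
            (((MvPolynomial.isWeightedHomogeneous_X ℚ (W4c3tautjacobian.wt g) none).mul
              (hxv _ _ (p.1 - 1) (p.2 - 1) (by omega) (by omega))).mul
              (hxv _ _ (q.1 - 1) (q.2 - 1) (by omega) (by omega))) hpq
            (by simp only [Prod.fst_add]; omega) (by simp only [Prod.snd_add]; omega)
      · rw [MvPolynomial.support_neg] at hm
        revert m
        show _ ∈ S
        by_cases hz : W4c3tautjacobian.mergeCoeff p.1 q.1 = 0
        · simpa [hz] using h0
        · rw [W4c3tautjacobian.mergeCoeff] at hz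
          split_ifs at hz with hpz
          · exact absurd rfl hz
          · exact hmul _ (0 + (p.1 + q.1 - 2)) (0 + (p.2 + q.2)) _ (p + q)
              ((MvPolynomial.isWeightedHomogeneous_C (W4c3tautjacobian.wt g)
                ((W4c3tautjacobian.mergeCoeff p.1 q.1 : ℕ) : ℚ)).mul
                (hxv _ _ (p.1 + q.1 - 2) (p.2 + q.2) (by omega) (by omega))) hpq
              (by simp only [Prod.fst_add]; omega) (by simp only [Prod.snd_add]; omega)
    · by_cases hp : p.1 < 2
      · rw [hxv0 ((p.1 : ℤ) - 2) _ (by omega), zero_mul]; exact h0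
      · exact hmul _ (p.1 - 2) p.2 _ p (hxv _ _ (p.1 - 2) p.2 (by omega) (by omega)) (hdv p P (a, b) hP) (by omega) rfl
  -- the commutator with multiplication by the variable
  have hcomm : ∀ (P : W4c3tautjacobian.RelRing g) (a b : ℕ),
      MvPolynomial.IsWeightedHomogeneous (W4c3tautjacobian.wt g) P ((a, b) : ℕ × ℕ) →
      W4c3tautjacobian.F g (W4c3tautjacobian.E g P) =
        W4c3tautjacobian.E g (W4c3tautjacobian.F g P) + ((g : W4c3tautjacobian.RelRing g) - (a : W4c3tautjacobian.RelRing g)) * P := by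
    intro P a b hP
    have hdvE : ∀ q Q, W4c3tautjacobian.dv g q (W4c3tautjacobian.E g Q) =
        W4c3tautjacobian.E g (W4c3tautjacobian.dv g q Q) + (if q = (2, 0) then Q else 0) := by
      intro q Q
      rw [hE, hE, W4c3tautjacobian.dv, W4c3tautjacobian.dv]
      split_ifs with h hq hq
      · subst hq
        rw [MvPolynomial.pderiv_mul, MvPolynomial.pderiv_X_self]; ring
      · rw [MvPolynomial.pderiv_mul, MvPolynomial.pderiv_X_of_ne (fun e => hq (by simpa using (congrArg Subtype.val (Option.some.inj e)).symm))]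
        ring
      · exact absurd (hq ▸ hv20) h
      · simp
    have hmem : (2, 0) ∈ W4c3tautjacobian.idx g := by
      simp only [W4c3tautjacobian.idx, Finset.mem_product, Finset.mem_range]; omega
    have hEuler : ∑ p ∈ W4c3tautjacobian.idx g,
        (p.1 : W4c3tautjacobian.RelRing g) * (W4c3tautjacobian.xv g p.1 p.2 * W4c3tautjacobian.dv g p P) =
        (a : W4c3tautjacobian.RelRing g) * P := by
      have key : ∀ d : W4c3tautjacobian.Var g →₀ ℕ, ∑ p ∈ W4c3tautjacobian.idx g,
          (p.1 : W4c3tautjacobian.RelRing g) * (W4c3tautjacobian.xv g p.1 p.2 *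
            W4c3tautjacobian.dv g p (MvPolynomial.monomial d 1)) =
          (((Finsupp.weight (W4c3tautjacobian.wt g) d).1 : ℕ) : W4c3tautjacobian.RelRing g) * MvPolynomial.monomial d 1 := by
        intro d
        have hterm : ∀ p : ℕ × ℕ, (p.1 : W4c3tautjacobian.RelRing g) * (W4c3tautjacobian.xv g p.1 p.2 *
            W4c3tautjacobian.dv g p (MvPolynomial.monomial d 1)) =
            (((if h : W4c3tautjacobian.Valid g p then d (some ⟨p, h⟩) * p.1 else 0 : ℕ)) : W4c3tautjacobian.RelRing g) *
              MvPolynomial.monomial d 1 := by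
          intro p
          rw [W4c3tautjacobian.dv]
          by_cases h : W4c3tautjacobian.Valid g p
          · rw [dif_pos h, dif_pos h, W4c3tautjacobian.xv, if_neg (fun e => h.2.2.2 (Prod.ext (by omega) (by omega))),
              dif_pos ⟨by omega, by omega, by simpa using h⟩]
            simp only [Int.toNat_natCast]
            rw [MvPolynomial.X_mul_pderiv_monomial]
            push_cast
            rw [nsmul_eq_mul]
            ring
          · rw [dif_neg h, dif_neg h]; simp
        rw [Finset.sum_congr rfl fun p _ => hterm p, ← Finset.sum_mul, ← Nat.cast_sum]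
        congr 2
        rw [Finsupp.weight_apply, Finsupp.sum_fintype _ _ (fun i => zero_smul ℕ (W4c3tautjacobian.wt g i)),
          Fintype.sum_option, Prod.fst_add, Prod.fst_sum]
        simp only [Prod.smul_fst, W4c3tautjacobian.wt, smul_eq_mul, mul_zero, zero_add]
        have hsub : ∀ p : ℕ × ℕ, W4c3tautjacobian.Valid g p → p ∈ W4c3tautjacobian.idx g := fun p hp => by
          simp only [W4c3tautjacobian.idx, Finset.mem_product, Finset.mem_range]
          obtain ⟨h1, h2, -⟩ := hp
          omega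
        symm
        refine Finset.sum_bij_ne_zero (fun q _ _ => q.1) (fun q _ _ => hsub _ q.2)
          (fun q _ _ r _ _ e => Subtype.ext e) (fun p _ hp => ?_) (fun q _ _ => by rw [dif_pos q.2])
        by_cases hv : W4c3tautjacobian.Valid g p
        · exact ⟨⟨p, hv⟩, Finset.mem_univ _, by rw [dif_pos hv] at hp; exact hp, rfl⟩
        · exact absurd (dif_neg hv) hp
      conv_rhs => rw [P.as_sum, Finset.mul_sum]
      conv_lhs => rw [P.as_sum]
      have hlin : ∀ p : ℕ × ℕ, W4c3tautjacobian.dv g p (∑ d ∈ P.support, MvPolynomial.monomial d (P.coeff d)) =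
          ∑ d ∈ P.support, MvPolynomial.C (P.coeff d) * W4c3tautjacobian.dv g p (MvPolynomial.monomial d 1) := by
        intro p
        rw [W4c3tautjacobian.dv]
        by_cases h : W4c3tautjacobian.Valid g p
        · rw [dif_pos h, map_sum]
          refine Finset.sum_congr rfl fun d _ => ?_
          rw [W4c3tautjacobian.dv, dif_pos h, ← MvPolynomial.pderiv_C_mul, MvPolynomial.C_mul_monomial, mul_one]
        · rw [dif_neg h]; simp [W4c3tautjacobian.dv, h]
      simp only [hlin, Finset.mul_sum]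
      rw [Finset.sum_comm]
      refine Finset.sum_congr rfl fun d hd => ?_
      rw [show MvPolynomial.monomial d (P.coeff d) = MvPolynomial.C (P.coeff d) * MvPolynomial.monomial d (1 : ℚ) by
        rw [MvPolynomial.C_mul_monomial, mul_one],
        show (a : W4c3tautjacobian.RelRing g) * (MvPolynomial.C (P.coeff d) * MvPolynomial.monomial d 1) =
          MvPolynomial.C (P.coeff d) * ((((Finsupp.weight (W4c3tautjacobian.wt g) d).1 : ℕ) : W4c3tautjacobian.RelRing g) *
            MvPolynomial.monomial d 1) by rw [hP (MvPolynomial.mem_support_iff.1 hd)]; ring,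
        ← key, Finset.mul_sum]
      exact Finset.sum_congr rfl fun p _ => by ring
    let c : ℕ × ℕ → ℕ × ℕ → W4c3tautjacobian.RelRing g := fun p q =>
      MvPolynomial.X none * W4c3tautjacobian.xv g ((p.1 : ℤ) - 1) ((p.2 : ℤ) - 1)
          * W4c3tautjacobian.xv g ((q.1 : ℤ) - 1) ((q.2 : ℤ) - 1)
        - (W4c3tautjacobian.mergeCoeff p.1 q.1 : W4c3tautjacobian.RelRing g) *
          W4c3tautjacobian.xv g ((p.1 : ℤ) + q.1 - 2) ((p.2 : ℤ) + q.2)
    have hF' : ∀ Q, W4c3tautjacobian.F g Q =
        (1 / 2 : ℚ) • (∑ p ∈ W4c3tautjacobian.idx g, ∑ q ∈ W4c3tautjacobian.idx g,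
          c p q * W4c3tautjacobian.dv g p (W4c3tautjacobian.dv g q Q)) +
        ∑ p ∈ W4c3tautjacobian.idx g, W4c3tautjacobian.xv g ((p.1 : ℤ) - 2) (p.2 : ℤ) * W4c3tautjacobian.dv g p Q :=
      fun Q => rfl
    have hc : ∀ p, c p (2, 0) = c (2, 0) p ∧ c (2, 0) p = -((p.1 : W4c3tautjacobian.RelRing g) * W4c3tautjacobian.xv g p.1 p.2) := by
      intro p
      have hm : W4c3tautjacobian.mergeCoeff p.1 2 = p.1 ∧ W4c3tautjacobian.mergeCoeff 2 p.1 = p.1 := by
        rw [W4c3tautjacobian.mergeCoeff, W4c3tautjacobian.mergeCoeff]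
        by_cases hp : p.1 = 0
        · simp [hp]
        · obtain ⟨n, hn⟩ := Nat.exists_eq_succ_of_ne_zero hp
          simp [hn, Nat.choose_succ_self_right]
      have h1 : W4c3tautjacobian.xv g (((2 : ℕ) : ℤ) - 1) (((0 : ℕ) : ℤ) - 1) = 0 := hxv0 _ _ (by omega)
      simp only [c, hm.1, hm.2, h1, mul_zero, zero_mul, zero_sub]
      refine ⟨?_, ?_⟩ <;> congr 3 <;> push_cast <;> ring
    have hgg : W4c3tautjacobian.xv g (((2 : ℕ) : ℤ) - 2) ((0 : ℕ) : ℤ) = (g : W4c3tautjacobian.RelRing g) := by
      rw [W4c3tautjacobian.xv, if_pos (by omega)]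
    rw [hF', hF' P]
    simp only [hE, mul_add, Finset.mul_sum, mul_smul_comm]
    simp only [← hE]
    have hdd : ∀ p q, W4c3tautjacobian.dv g p (W4c3tautjacobian.dv g q (W4c3tautjacobian.E g P)) =
        W4c3tautjacobian.E g (W4c3tautjacobian.dv g p (W4c3tautjacobian.dv g q P)) +
        (if p = (2, 0) then W4c3tautjacobian.dv g q P else 0) + (if q = (2, 0) then W4c3tautjacobian.dv g p P else 0) := by
      intro p q
      rw [hdvE q P]
      have hadd : ∀ A B, W4c3tautjacobian.dv g p (A + B) = W4c3tautjacobian.dv g p A + W4c3tautjacobian.dv g p B := by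
        intro A B; simp only [W4c3tautjacobian.dv]; split_ifs <;> simp
      rw [hadd, hdvE]
      split_ifs <;> simp [W4c3tautjacobian.dv]
    have hE' : ∀ (c Q : W4c3tautjacobian.RelRing g), c * W4c3tautjacobian.E g Q = W4c3tautjacobian.E g (c * Q) := by
      intro c Q; rw [hE, hE]; ring
    have s1 : ∑ p ∈ W4c3tautjacobian.idx g, W4c3tautjacobian.xv g ((p.1 : ℤ) - 2) (p.2 : ℤ) *
        W4c3tautjacobian.dv g p (W4c3tautjacobian.E g P) =
        (∑ p ∈ W4c3tautjacobian.idx g, W4c3tautjacobian.E g (W4c3tautjacobian.xv g ((p.1 : ℤ) - 2) (p.2 : ℤ) *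
          W4c3tautjacobian.dv g p P)) + (g : W4c3tautjacobian.RelRing g) * P := by
      simp only [hdvE, mul_add, hE', Finset.sum_add_distrib]
      congr 1
      rw [Finset.sum_eq_single_of_mem (2, 0) hmem (fun p _ hp => by rw [if_neg hp, mul_zero]), if_pos rfl, hgg]
    have s2 : ∑ p ∈ W4c3tautjacobian.idx g, ∑ q ∈ W4c3tautjacobian.idx g,
        c p q * W4c3tautjacobian.dv g p (W4c3tautjacobian.dv g q (W4c3tautjacobian.E g P)) =
        (∑ p ∈ W4c3tautjacobian.idx g, ∑ q ∈ W4c3tautjacobian.idx g,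
          W4c3tautjacobian.E g (c p q * W4c3tautjacobian.dv g p (W4c3tautjacobian.dv g q P))) -
        ((a : W4c3tautjacobian.RelRing g) * P + (a : W4c3tautjacobian.RelRing g) * P) := by
      simp only [hdd, mul_add, hE', Finset.sum_add_distrib]
      rw [sub_eq_add_neg, add_assoc]
      congr 1
      rw [neg_add, Finset.sum_eq_single_of_mem (2, 0) hmem (fun p _ hp => by simp [hp])]
      congr 1
      · rw [← hEuler, ← Finset.sum_neg_distrib]
        refine Finset.sum_congr rfl fun q _ => ?_
        rw [if_pos rfl, (hc q).2]; ring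
      · rw [← hEuler, ← Finset.sum_neg_distrib]
        refine Finset.sum_congr rfl fun p _ => ?_
        rw [Finset.sum_eq_single_of_mem (2, 0) hmem (fun q _ hq => by rw [if_neg hq, mul_zero]), if_pos rfl, (hc p).1, (hc p).2]
        ring
    rw [s1, s2, smul_sub, show (1 / 2 : ℚ) • ((a : W4c3tautjacobian.RelRing g) * P + (a : W4c3tautjacobian.RelRing g) * P) =
      (a : W4c3tautjacobian.RelRing g) * P by rw [← two_smul ℚ, smul_smul]; norm_num]
    ring
  -- iterate
  have hFadd : ∀ A B, W4c3tautjacobian.F g (A + B) = W4c3tautjacobian.F g A + W4c3tautjacobian.F g B := by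
    intro A B
    have hadd : ∀ p A B, W4c3tautjacobian.dv g p (A + B) = W4c3tautjacobian.dv g p A + W4c3tautjacobian.dv g p B := by
      intro p A B; simp only [W4c3tautjacobian.dv]; split_ifs <;> simp
    simp only [W4c3tautjacobian.F, hadd, mul_add, Finset.sum_add_distrib, smul_add]
    ring
  have hFsmul : ∀ (c : ℚ) A, W4c3tautjacobian.F g (c • A) = c • W4c3tautjacobian.F g A := by
    intro c A
    have h : ∀ p (A : W4c3tautjacobian.RelRing g), W4c3tautjacobian.dv g p (c • A) = c • W4c3tautjacobian.dv g p A := by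
      intro p A; simp only [W4c3tautjacobian.dv]; split_ifs <;> simp
    simp only [W4c3tautjacobian.F, h, mul_smul_comm, ← Finset.smul_sum, smul_add, smul_comm c]
  exact ⟨hF, hcomm, hFadd, hFsmul⟩

end Groth.Agent.TautJac28
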