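import Groth.Agent.Lib.TautJac28.Struct
import Mathlib.Tactic.Module

/-!
# The relations in low second degree vanish
-/

set_option autoImplicit false
open W4c3tautjacobian MvPolynomial

noncomputable section

namespace Groth.Agent.TautJac28

variable {g : ℕ} (hg : 1 ≤ g)

include hg

lemma iterate_homog {P : RelRing g} {a b : ℕ} (hP : IsWeightedHomogeneous (wt g) P ((a, b) : ℕ × ℕ)) :
    ∀ m : ℕ, IsWeightedHomogeneous (wt g) ((F g)^[m] P) ((a - 2 * m, b) : ℕ × ℕ) ∧
      (a < 2 * m → (F g)^[m] P = 0) := by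
  intro m
  induction m with
  | zero => exact ⟨by simpa using hP, by omega⟩
  | succ m ih =>
    rw [Function.iterate_succ_apply']
    have h := (structure_lemmas g hg).1 _ _ _ ih.1
    refine ⟨fun d hd => ?_, fun hlt => ?_⟩
    · obtain ⟨h1, h2⟩ := h d (mem_support_iff.2 hd)
      exact Prod.ext (show _ = a - 2 * (m + 1) by omega) h2
    · rw [← support_eq_empty, Finset.eq_empty_iff_forall_notMem]
      intro d hd
      have := (h d hd).1
      omega

lemma F_zero : F g (0 : RelRing g) = 0 := by
  have := (structure_lemmas g hg).2.2.2 0 0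
  simpa using this

lemma iterate_E {Q : RelRing g} {a b : ℕ} (hQ : IsWeightedHomogeneous (wt g) Q ((a, b) : ℕ × ℕ)) :
    ∀ m : ℕ, (F g)^[m] (E g Q) = E g ((F g)^[m] Q) +
      ((m : ℚ) * ((g : ℚ) - a + m - 1)) • (F g)^[m - 1] Q := by
  intro m
  induction m with
  | zero => simp
  | succ m ih =>
    obtain ⟨-, hcomm, hadd, hsmul⟩ := structure_lemmas g hg
    rw [Function.iterate_succ_apply', ih, hadd, hsmul, hcomm _ _ _ (iterate_homog hg hQ m).1,
      Function.iterate_succ_apply' (F g) m Q, add_assoc]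
    congr 1
    rw [Nat.add_sub_cancel]
    have e : ((g : RelRing g) - ((a - 2 * m : ℕ) : RelRing g)) * (F g)^[m] Q =
        ((g : ℚ) - ((a - 2 * m : ℕ) : ℚ)) • (F g)^[m] Q := by
      rw [Algebra.smul_def, map_sub, map_natCast, map_natCast]
    rw [e]
    have e2 : ((g : ℚ) - ((a - 2 * m : ℕ) : ℚ)) • (F g)^[m] Q = ((g : ℚ) - a + 2 * m) • (F g)^[m] Q := by
      rcases le_or_gt (2 * m) a with h | h
      · rw [Nat.cast_sub h]; push_cast; ring_nf
      · rw [(iterate_homog hg hQ m).2 h, smul_zero, smul_zero]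
    rw [e2]
    rcases Nat.eq_zero_or_pos m with rfl | hm
    · simp only [Nat.cast_zero, zero_mul, zero_smul, add_zero]
      module
    · rw [← Function.iterate_succ_apply' (F g) (m - 1) Q, show (m - 1).succ = m by omega, ← add_smul]
      congr 1
      push_cast
      ring

omit hg in
lemma hv20 (hg : 1 ≤ g) : Valid g (2, 0) := ⟨le_refl 2, by omega, ⟨1, rfl⟩, by decide⟩

lemma E_eq (Q : RelRing g) : E g Q = X (some ⟨(2, 0), hv20 hg⟩) * Q := by
  rw [E, xv, if_neg (by decide), dif_pos ⟨by decide, by decide, hv20 hg⟩]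
  rfl

/-- Monomials of low second degree have bounded first degree, apart from the raising variable. -/
theorem weight_le (d : Var g →₀ ℕ) :
    (Finsupp.weight (wt g) d).1 ≤ 3 * (Finsupp.weight (wt g) d).2 + 2 * d (some ⟨(2, 0), hv20 hg⟩) := by
  induction d using Finsupp.induction with
  | zero => simp
  | single_add v n d _ _ ih =>
    rw [map_add, Finsupp.weight_single, Finsupp.add_apply, Prod.fst_add, Prod.snd_add, Prod.smul_fst, Prod.smul_snd,
      smul_eq_mul, smul_eq_mul]
    suffices (wt g v).1 * n ≤ 3 * ((wt g v).2 * n) + 2 * (Finsupp.single v n (some ⟨(2, 0), hv20 hg⟩)) by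
      rw [mul_comm n, mul_comm n]; omega
    rcases v with _ | ⟨⟨i, j⟩, h1, h2, h3, h4⟩
    · simp [wt]
    · by_cases he : (i, j) = (2, 0)
      · obtain ⟨rfl, rfl⟩ := Prod.ext_iff.1 he
        simp [wt]
      · have hij : i ≤ 3 * j := by
          simp only at h1 h3
          obtain ⟨c, hc⟩ := h3
          simp only [Prod.mk.injEq, not_and, ne_eq] at he h4
          omega
        have := Nat.mul_le_mul_right n hij
        simp only [wt] at *
        rw [mul_assoc] at this
        omega

theorem monomial_killed : ∀ (r : ℕ) (d : Var g →₀ ℕ), d (some ⟨(2, 0), hv20 hg⟩) = r →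
    3 * (Finsupp.weight (wt g) d).2 ≤ 2 * g → ∀ m, (Finsupp.weight (wt g) d).1 = 2 * m → g < m →
      (F g)^[m] (monomial d 1 : RelRing g) = 0 := by
  intro r
  induction r with
  | zero =>
    intro d hd hb m hm hgm
    have := weight_le hg d
    omega
  | succ r ih =>
    intro d hd hb m hm hgm
    obtain ⟨d', rfl⟩ : ∃ d', d = Finsupp.single (some ⟨(2, 0), hv20 hg⟩) 1 + d' :=
      ⟨d - Finsupp.single _ 1, (add_tsub_cancel_of_le (Finsupp.single_le_iff.2 (by omega))).symm⟩
    rw [map_add, Finsupp.weight_single, one_smul] at hb hm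
    simp only [wt, Prod.fst_add, Prod.snd_add, zero_add] at hb hm
    rw [Finsupp.add_apply, Finsupp.single_eq_same] at hd
    have e : (monomial (Finsupp.single (some ⟨(2, 0), hv20 hg⟩) 1 + d') 1 : RelRing g) = E g (monomial d' 1) := by
      rw [E_eq hg, X, monomial_mul, one_mul]
    have hQ : IsWeightedHomogeneous (wt g) (monomial d' 1 : RelRing g)
        (((Finsupp.weight (wt g) d').1, (Finsupp.weight (wt g) d').2) : ℕ × ℕ) :=
      isWeightedHomogeneous_monomial _ _ _ rfl
    rw [e, iterate_E hg hQ, (iterate_homog hg hQ m).2 (by omega), E_eq hg, mul_zero, zero_add]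
    by_cases hm1 : m = g + 1
    · have h2 : (Finsupp.weight (wt g) d').1 = 2 * g := by omega
      rw [h2, hm1]
      push_cast
      ring_nf
      simp
    · rw [ih d' (by omega) hb (m - 1) (by omega) (by omega), smul_zero]

theorem low_part_zero {P : RelRing g} (hP : P ∈ relIdeal g) (d : Var g →₀ ℕ)
    (h1 : (Finsupp.weight (wt g) d).1 = 0) (h2 : 3 * (Finsupp.weight (wt g) d).2 ≤ 2 * g) : coeff d P = 0 := by
  classical
  revert d
  refine Submodule.span_induction (p := fun (P : RelRing g) _ => ∀ d : Var g →₀ ℕ, (Finsupp.weight (wt g) d).1 = 0 →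
    3 * (Finsupp.weight (wt g) d).2 ≤ 2 * g → coeff d P = 0) ?_ ?_ ?_ ?_ hP
  · rintro _ ⟨e, n, hn, rfl⟩ d hd1 hd2
    by_contra hne
    have hQ : IsWeightedHomogeneous (wt g) (monomial e 1 : RelRing g)
        (((Finsupp.weight (wt g) e).1, (Finsupp.weight (wt g) e).2) : ℕ × ℕ) :=
      isWeightedHomogeneous_monomial _ _ _ rfl
    obtain ⟨hh, hz⟩ := iterate_homog hg hQ n
    have hd := hh hne
    have hlt : ¬ (Finsupp.weight (wt g) e).1 < 2 * n := fun h => hne (by rw [hz h, coeff_zero])
    rw [hd] at hd1 hd2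
    simp only at hd1 hd2
    exact hne (by rw [monomial_killed hg _ e rfl hd2 n (by omega) (by omega), coeff_zero])
  · simp
  · intro A B _ _ hA hB d hd1 hd2
    rw [coeff_add, hA d hd1 hd2, hB d hd1 hd2, add_zero]
  · intro c A _ hA d hd1 hd2
    rw [smul_eq_mul, coeff_mul]
    refine Finset.sum_eq_zero fun p hp => ?_
    rw [Finset.mem_antidiagonal] at hp
    rw [← hp, map_add, Prod.fst_add] at hd1
    rw [← hp, map_add, Prod.snd_add] at hd2
    rw [hA p.2 (by omega) (by omega), mul_zero]

end Groth.Agent.TautJac28
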